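import Cfsg.Agent.Lib.MaxClassCentralizer.Functional
import Cfsg.Agent.Lib.Primitive62.Basic
import Cfsg.Agent.Lib.PSolvable.Core
import Mathlib

/-!
# The minimal normal subgroups of a non-abelian minimal normal subgroup
-/

set_option autoImplicit false

namespace Cfsg.Agent.Lib.MaxClassCentralizer

universe u

variable {G : Type u} [Group G] [Finite G] {p : ℕ} [hp : Fact p.Prime]

/-- `T` is a minimal normal subgroup of `N`. -/
def IsFactor (N T : Subgroup G) : Prop :=
  T ≤ N ∧ N ≤ Subgroup.normalizer (T : Set G) ∧ T ≠ ⊥ ∧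
    ∀ M : Subgroup G, M ≤ T → N ≤ Subgroup.normalizer (M : Set G) → M = ⊥ ∨ M = T

omit [Finite G] hp in
theorem normalizer_inf_le (A B : Subgroup G) :
    Subgroup.normalizer (A : Set G) ⊓ Subgroup.normalizer (B : Set G) ≤
      Subgroup.normalizer ((A ⊓ B : Subgroup G) : Set G) := by
  intro g hg
  rw [Subgroup.mem_normalizer_iff]
  intro x
  exact and_congr (Subgroup.mem_normalizer_iff.1 hg.1 x) (Subgroup.mem_normalizer_iff.1 hg.2 x)

omit hp in
theorem exists_isFactor (N : Subgroup G) (hN : N ≠ ⊥) : ∃ T, IsFactor N T := by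
  obtain ⟨T, hT, hmin⟩ := (Set.toFinite {T : Subgroup G | T ≤ N ∧
    N ≤ Subgroup.normalizer (T : Set G) ∧ T ≠ ⊥}).exists_minimal
    ⟨N, le_rfl, Subgroup.le_normalizer, hN⟩
  refine ⟨T, hT.1, hT.2.1, hT.2.2, fun M hMT hMN => ?_⟩
  by_cases h : M = ⊥
  · exact Or.inl h
  · exact Or.inr (le_antisymm hMT (hmin ⟨hMT.trans hT.1, hMN, h⟩ hMT))

omit hp in
theorem commute_of_ne {N T T' : Subgroup G} (h : IsFactor N T) (h' : IsFactor N T') (hne : T ≠ T') :
    T' ≤ Subgroup.centralizer (T : Set G) := by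
  have hinf : T ⊓ T' = ⊥ := by
    have hn : N ≤ Subgroup.normalizer ((T ⊓ T' : Subgroup G) : Set G) :=
      (le_inf h.2.1 h'.2.1).trans (normalizer_inf_le T T')
    rcases h.2.2.2 _ inf_le_left hn with h0 | h0
    · exact h0
    · rcases h'.2.2.2 _ inf_le_right hn with h1 | h1
      · exact h1
      · exact absurd (h0.symm.trans h1) hne
  intro b hb
  rw [Subgroup.mem_centralizer_iff]
  intro a ha
  have h1 : a * b * a⁻¹ * b⁻¹ ∈ T ⊓ T' := by
    constructor
    · have := (Subgroup.mem_normalizer_iff.1 (h.2.1 (h'.1 hb)) a⁻¹).1 (T.inv_mem ha)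
      simpa [mul_assoc] using T.mul_mem ha this
    · exact T'.mul_mem ((Subgroup.mem_normalizer_iff.1 (h'.2.1 (h.1 ha)) b).1 hb) (T'.inv_mem hb)
  rw [hinf, Subgroup.mem_bot, mul_inv_eq_one, mul_inv_eq_iff_eq_mul] at h1
  exact h1

omit hp in
theorem isFactor_map_conj {N T : Subgroup G} [hN : N.Normal] (h : IsFactor N T) (g : G) :
    IsFactor N (T.map (MulAut.conj g).toMonoidHom) := by
  have hNg : ∀ g : G, N.map (MulAut.conj g).toMonoidHom = N := fun g =>
    Subgroup.mem_normalizer_iff_map_conj_eq.1 (by rw [Subgroup.normalizer_eq_top]; trivial)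
  have hmap : ∀ (g : G) (A : Subgroup G), N ≤ Subgroup.normalizer (A : Set G) →
      N ≤ Subgroup.normalizer ((A.map (MulAut.conj g).toMonoidHom : Subgroup G) : Set G) := by
    intro g A hA
    refine le_trans (le_of_eq (hNg g).symm) ((Subgroup.map_mono hA).trans ?_)
    exact Subgroup.le_normalizer_map _
  refine ⟨hNg g ▸ Subgroup.map_mono h.1, hmap g T h.2.1,
    fun h0 => h.2.2.1 ((Subgroup.map_eq_bot_iff_of_injective T (MulEquiv.injective _)).1 h0),
    fun M hM hMN => ?_⟩
  have hback : ∀ (g : G) (A : Subgroup G),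
      (A.map (MulAut.conj g).toMonoidHom).map (MulAut.conj g⁻¹).toMonoidHom = A := fun g A => by
    rw [Subgroup.map_map]
    convert Subgroup.map_id A
    ext x
    simp [mul_assoc]
  have hMb := h.2.2.2 (M.map (MulAut.conj g⁻¹).toMonoidHom)
    (hback g T ▸ Subgroup.map_mono hM) (hmap _ M hMN)
  have hM2 : (M.map (MulAut.conj g⁻¹).toMonoidHom).map (MulAut.conj g).toMonoidHom = M := by
    simpa using hback g⁻¹ M
  rcases hMb with h0 | h0
  · exact Or.inl ((Subgroup.map_eq_bot_iff_of_injective M (MulEquiv.injective _)).1 h0)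
  · exact Or.inr (by rw [← hM2, h0])

omit hp in
theorem pPrimeCore_eq_bot_of_normal (hcore : Cfsg.pPrimeCore p G = ⊥) (N : Subgroup G) [N.Normal] :
    Cfsg.pPrimeCore p N = ⊥ := by
  have h := PSolvable.map_subtype_pPrimeCore_of_normal (p := p) N
  rw [hcore, bot_inf_eq] at h
  exact (Subgroup.map_eq_bot_iff_of_injective _ N.subtype_injective).1 h

theorem factor_props (hcore : Cfsg.pPrimeCore p G = ⊥) (P : Sylow p G) (N : Subgroup G) [N.Normal]
    (hmin : ∀ M : Subgroup G, M.Normal → M ≤ N → M = ⊥ ∨ M = N) (hna : ¬ IsMulCommutative N)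
    {T : Subgroup G} (hT : IsFactor N T) :
    ¬ p ∣ ((P : Subgroup G) ⊓ N).relIndex T ∧ ¬ p ∣ (P : Subgroup G).relIndex T ∧
      T ⊓ Subgroup.centralizer (T : Set G) = ⊥ ∧
      ∀ L : Subgroup G, L ≤ T → T ≤ Subgroup.normalizer (L : Set G) → ¬ p ∣ Nat.card L → L = ⊥ := by
  have hN0 : N ≠ ⊥ := fun h => hna (by
    subst h; exact ⟨⟨fun a b => Subsingleton.elim _ _⟩⟩)
  have hPN : ¬ p ∣ (P : Subgroup G).relIndex N := by
    intro h
    rw [← relIndex_sup_eq (P : Subgroup G) N (by rw [Subgroup.normalizer_eq_top]; exact le_top)] at h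
    exact P.not_dvd_index (h.trans ⟨_, (Subgroup.relIndex_mul_index le_sup_right).symm⟩)
  have h1 : ¬ p ∣ ((P : Subgroup G) ⊓ N).relIndex T := by
    intro h
    refine hPN ?_
    rw [← Subgroup.inf_relIndex_right]
    rw [← relIndex_sup_eq ((P : Subgroup G) ⊓ N) T (inf_le_right.trans hT.2.1)] at h
    exact h.trans ⟨_, (Subgroup.relIndex_mul_relIndex _ _ _ le_sup_right
      (sup_le hT.1 inf_le_right)).symm⟩
  refine ⟨h1, fun h => h1 ?_, ?_, ?_⟩
  · rw [← Subgroup.inf_relIndex_right, inf_assoc, inf_eq_right.2 hT.1,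
      Subgroup.inf_relIndex_right]
    exact h
  · have hn : N ≤ Subgroup.normalizer
        ((T ⊓ Subgroup.centralizer (T : Set G) : Subgroup G) : Set G) :=
      (le_inf hT.2.1 (hT.2.1.trans (Subgroup.le_normalizer_iff.2 fun g hg c hc => by
        rw [Subgroup.mem_centralizer_iff] at hc ⊢
        intro t ht
        have h := hc _ ((Subgroup.mem_normalizer_iff''.1 hg t).1 ht)
        calc t * (g * c * g⁻¹) = g * (g⁻¹ * t * g * c) * g⁻¹ := by group
          _ = g * (c * (g⁻¹ * t * g)) * g⁻¹ := by rw [h]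
          _ = g * c * g⁻¹ * t := by group))).trans (normalizer_inf_le _ _)
    refine (hT.2.2.2 _ inf_le_left hn).resolve_right fun hTT => ?_
    rcases Primitive62.minimal_normal_cases N hN0 hmin with ⟨h, -⟩ | ⟨S, iS, iSs, iSf, k, hk, hS, ⟨e⟩⟩
    · exact hna h
    · haveI : (T.subgroupOf N).Normal := Subgroup.normal_subgroupOf_of_le_normalizer hT.2.1
      refine hT.2.2.1 (eq_bot_iff.2 fun t ht => ?_)
      have hzero : ∀ i, e ⟨t, hT.1 ht⟩ i = 1 := by
        intro i
        let f : N →* S := (Pi.evalMonoidHom (fun _ : Fin k => S) i).comp e.toMonoidHom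
        have hf : Function.Surjective f := fun s => ⟨e.symm fun _ => s, by simp [f]⟩
        rcases (Subgroup.Normal.map inferInstance f hf :
            ((T.subgroupOf N).map f).Normal).eq_bot_or_eq_top with h | h
        · exact Subgroup.mem_bot.1 (h ▸ Subgroup.mem_map_of_mem f
            (show (⟨t, hT.1 ht⟩ : N) ∈ T.subgroupOf N from ht))
        · refine absurd ⟨⟨fun a b => ?_⟩⟩ hS
          obtain ⟨a', ha', rfl⟩ := Subgroup.mem_map.1 (h ▸ Subgroup.mem_top a)
          obtain ⟨b', hb', rfl⟩ := Subgroup.mem_map.1 (h ▸ Subgroup.mem_top b)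
          rw [← map_mul, ← map_mul]
          congr 1
          refine Subtype.ext ?_
          push_cast
          have ha2 : (a' : G) ∈ T ⊓ Subgroup.centralizer (T : Set G) := hTT.symm ▸ ha'
          exact (Subgroup.mem_centralizer_iff.1 ha2.2 _ hb').symm
      have h' : e ⟨t, hT.1 ht⟩ = 1 := funext hzero
      rw [MulEquiv.map_eq_one_iff] at h'
      exact Subgroup.mem_bot.2 (congrArg Subtype.val h')
  · intro L hL hTL hLp
    haveI : (T.subgroupOf N).Normal := Subgroup.normal_subgroupOf_of_le_normalizer hT.2.1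
    have hT0 := pPrimeCore_eq_bot_of_normal (p := p) (pPrimeCore_eq_bot_of_normal hcore N)
      (T.subgroupOf N)
    set L' := (L.subgroupOf N).subgroupOf (T.subgroupOf N) with hL'
    haveI : L'.Normal := Subgroup.normal_subgroupOf_of_le_normalizer (by
      intro t ht
      rw [Subgroup.mem_normalizer_iff]
      intro x
      simp only [Subgroup.mem_subgroupOf, Subgroup.coe_mul, Subgroup.coe_inv]
      exact Subgroup.mem_normalizer_iff.1 (hTL ht) x)
    have hcard : Nat.card L' = Nat.card L := by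
      rw [hL', Nat.card_congr (Subgroup.subgroupOfEquivOfLe
        ((fun x hx => hL hx) : L.subgroupOf N ≤ T.subgroupOf N)).toEquiv,
        Nat.card_congr (Subgroup.subgroupOfEquivOfLe (hL.trans hT.1)).toEquiv]
    have hle : L' ≤ Cfsg.pPrimeCore p (T.subgroupOf N) := PSolvable.le_pPrimeCore
      ((hp.out.coprime_iff_not_dvd).2 (hcard ▸ hLp)).symm
    rw [hT0, le_bot_iff] at hle
    rw [hle, Subgroup.card_bot] at hcard
    exact Subgroup.card_eq_one.1 hcard.symm

end Cfsg.Agent.Lib.MaxClassCentralizer
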