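import Cfsg.Agent.Lib.MaxClassCentralizer.PGroups
import Cfsg.Agent.Lib.Transfer.Criteria
import Mathlib

/-!
# A homomorphism detecting the intersection with a normalised subgroup (from Tate's theorem)
-/

set_option autoImplicit false

namespace Cfsg.Agent.Lib.MaxClassCentralizer

universe u

variable {G : Type u} [Group G] [Finite G] {p : ℕ} [hp : Fact p.Prime]

/-- The index of the intersection, for a subgroup normalising another. -/
theorem relIndex_sup_eq (P S : Subgroup G) (h : P ≤ Subgroup.normalizer (S : Set G)) :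
    P.relIndex (S ⊔ P) = P.relIndex S := by
  haveI : (S.subgroupOf (S ⊔ P)).Normal :=
    Subgroup.normal_subgroupOf_of_le_normalizer (sup_le Subgroup.le_normalizer h)
  have hSP : S.relIndex (S ⊔ P) = S.relIndex P := by
    have h1 := Subgroup.relIndex_sup_left (K := S.subgroupOf (S ⊔ P))
      (H := P.subgroupOf (S ⊔ P))
    rwa [← Subgroup.subgroupOf_sup le_sup_left le_sup_right,
      Subgroup.relIndex_subgroupOf le_sup_right, Subgroup.subgroupOf_self, Subgroup.relIndex_top_right] at h1
  have a1 : ∀ A B : Subgroup G, A ≤ B → Nat.card A * A.relIndex B = Nat.card B := fun A B hAB => by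
    rw [← Nat.card_congr (Subgroup.subgroupOfEquivOfLe hAB).toEquiv, Subgroup.relIndex,
      Subgroup.card_mul_index]
  have b1 := a1 (P ⊓ S) S inf_le_right
  have b2 := a1 (S ⊓ P) P inf_le_right
  have b3 := a1 S (S ⊔ P) le_sup_left
  have b4 := a1 P (S ⊔ P) le_sup_right
  rw [Subgroup.inf_relIndex_right] at b1 b2
  rw [inf_comm] at b2
  rw [hSP, ← b1] at b3
  rw [← b2, ← b3] at b4
  have hpos : 0 < Nat.card ↥(P ⊓ S) := Nat.card_pos
  have hne : S.relIndex P ≠ 0 := Subgroup.index_ne_zero_of_finite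
  refine Nat.eq_of_mul_eq_mul_left (Nat.mul_pos hpos (Nat.pos_of_ne_zero hne)) ?_
  rw [b4]
  ring

/-- A normalised subgroup with trivial centre and trivial p'-core is detected by a homomorphism to
a group of order `p`. -/
theorem exists_functional (P S : Subgroup G) (hP : IsPGroup p P)
    (hPS : P ≤ Subgroup.normalizer (S : Set G)) (hsyl : ¬ p ∣ P.relIndex S)
    (hZ : S ⊓ Subgroup.centralizer (S : Set G) = ⊥) (hne : S ≠ ⊥)
    (hO : ∀ L : Subgroup G, L ≤ S → S ≤ Subgroup.normalizer (L : Set G) → ¬ p ∣ Nat.card L →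
      L = ⊥) :
    ∃ φ : P →* Multiplicative (ZMod p), ∃ a : P, (a : G) ∈ S ∧
      φ a = Multiplicative.ofAdd 1 ∧
      ∀ b : P, (b : G) ∈ Subgroup.centralizer (S : Set G) → φ b = 1 := by
  classical
  haveI : NeZero p := ⟨hp.out.ne_zero⟩
  set H := S ⊔ P with hH
  have hHS : H ≤ Subgroup.normalizer (S : Set G) := sup_le Subgroup.le_normalizer hPS
  haveI hS'n : (S.subgroupOf H).Normal := Subgroup.normal_subgroupOf_of_le_normalizer hHS
  haveI hC'n : ((Subgroup.centralizer (S : Set G)).subgroupOf H).Normal := by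
    refine ⟨fun c hc g => ?_⟩
    rw [Subgroup.mem_subgroupOf] at hc ⊢
    push_cast
    rw [Subgroup.mem_centralizer_iff] at hc ⊢
    intro s hs
    have hs' : (g : G)⁻¹ * s * (g : G) ∈ S := by
      have := (Subgroup.mem_normalizer_iff.1 (hHS g.2) ((g : G)⁻¹ * s * (g : G))).2
      exact this (by simpa [mul_assoc] using hs)
    have h := hc _ hs'
    calc s * ((g : G) * c * (g : G)⁻¹) = (g : G) * ((g : G)⁻¹ * s * g * c) * (g : G)⁻¹ := by group
      _ = (g : G) * (c * ((g : G)⁻¹ * s * g)) * (g : G)⁻¹ := by rw [h]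
      _ = (g : G) * c * (g : G)⁻¹ * s := by group
  set π := QuotientGroup.mk' ((Subgroup.centralizer (S : Set G)).subgroupOf H) with hπ
  have hπs : Function.Surjective π := QuotientGroup.mk'_surjective _
  have hinj : ∀ s ∈ S.subgroupOf H, π s = 1 → s = 1 := by
    intro s hs h1
    rw [hπ, QuotientGroup.mk'_apply, QuotientGroup.eq_one_iff, Subgroup.mem_subgroupOf] at h1
    refine Subtype.ext (show (s : G) = 1 from Subgroup.mem_bot.1 ?_)
    rw [← hZ]
    exact ⟨Subgroup.mem_subgroupOf.1 hs, h1⟩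
  set Pb := (P.subgroupOf H).map π with hPb
  set Sb := (S.subgroupOf H).map π with hSb
  haveI : Sb.Normal := hS'n.map π hπs
  have hP' : IsPGroup p (P.subgroupOf H) :=
    hP.comap_of_injective H.subtype H.subtype_injective
  have hPidx : ¬ p ∣ Pb.index := by
    intro h
    refine hsyl ?_
    rw [← relIndex_sup_eq P S hPS]
    exact h.trans (Subgroup.index_map_dvd _ hπs)
  let X : Sylow p (H ⧸ (Subgroup.centralizer (S : Set G)).subgroupOf H) := (hP'.map π).toSylow hPidx
  have hX : (X : Subgroup _) = Pb := IsPGroup.toSylow_coe _ _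
  have htop : Sb ⊔ Pb = ⊤ := by
    rw [hSb, hPb, ← Subgroup.map_sup, ← Subgroup.subgroupOf_sup le_sup_left le_sup_right,
      Subgroup.subgroupOf_self, Subgroup.map_top_of_surjective π hπs]
  -- the intersection of the two images
  have hmeet : Sb ⊓ Pb ≤ (P.subgroupOf H ⊓ S.subgroupOf H).map π := by
    set A := (P.subgroupOf H ⊓ S.subgroupOf H).map π with hA
    have hAle : A ≤ Sb ⊓ Pb :=
      le_inf (Subgroup.map_mono inf_le_right) (Subgroup.map_mono inf_le_left)
    have hAS : ¬ p ∣ A.relIndex Sb := by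
      intro h
      refine hsyl ?_
      have h2 : (P.subgroupOf H ⊓ S.subgroupOf H).relIndex (S.subgroupOf H) = P.relIndex S := by
        rw [Subgroup.inf_relIndex_right, Subgroup.relIndex_subgroupOf le_sup_left]
      rw [← h2]
      have hcardmap : ∀ T : Subgroup H, T ≤ S.subgroupOf H → Nat.card (T.map π) = Nat.card T := by
        intro T hT
        refine (Nat.card_congr (Equiv.ofBijective
          (fun t : T => (⟨π t, Subgroup.mem_map_of_mem π t.2⟩ : T.map π)) ⟨?_, ?_⟩)).symm
        · intro t t' htt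
          have h1 : π ((t : H)⁻¹ * t') = 1 := by
            have h2 : π t = π t' := congrArg Subtype.val htt
            rw [map_mul, map_inv, h2, inv_mul_cancel]
          exact Subtype.ext (inv_mul_eq_one.1
            (hinj _ (mul_mem (inv_mem (hT t.2)) (hT t'.2)) h1))
        · rintro ⟨_, t, ht, rfl⟩
          exact ⟨⟨t, ht⟩, rfl⟩
      have hrel : ∀ {X : Type u} [Group X] (A B : Subgroup X), A ≤ B →
          Nat.card A * A.relIndex B = Nat.card B := fun A B hAB => by
        rw [← Nat.card_congr (Subgroup.subgroupOfEquivOfLe hAB).toEquiv, Subgroup.relIndex,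
          Subgroup.card_mul_index]
      have h3 : A.relIndex Sb ∣ (P.subgroupOf H ⊓ S.subgroupOf H).relIndex (S.subgroupOf H) := by
        have e1 := hrel A Sb (Subgroup.map_mono inf_le_right)
        have e2 := hrel (P.subgroupOf H ⊓ S.subgroupOf H) (S.subgroupOf H) inf_le_right
        rw [hA, hSb, hcardmap _ inf_le_right, hcardmap _ le_rfl, ← e2] at e1
        exact dvd_of_eq (Nat.eq_of_mul_eq_mul_left Nat.card_pos e1)
      exact h.trans h3
    obtain ⟨n, hn⟩ := IsPGroup.iff_card.1 ((hP'.map π).to_le (inf_le_right : Sb ⊓ Pb ≤ Pb))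
    have hd1 : A.relIndex (Sb ⊓ Pb) ∣ p ^ n := hn ▸ Subgroup.index_dvd_card _
    have hd2 : A.relIndex (Sb ⊓ Pb) ∣ A.relIndex Sb :=
      ⟨_, (Subgroup.relIndex_mul_relIndex _ _ _ hAle inf_le_left).symm⟩
    refine Subgroup.relIndex_eq_one.1 (Nat.dvd_one.1 ?_)
    have hcop : Nat.Coprime (p ^ n) (A.relIndex Sb) :=
      Nat.Coprime.pow_left n (hp.out.coprime_iff_not_dvd.2 hAS)
    exact hcop ▸ Nat.dvd_gcd hd1 hd2
  -- Tate's theorem
  have hnotΦ : ¬ (Sb ⊓ Pb ≤ (frattini Pb).map Pb.subtype) := by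
    intro hle
    have hres : Cfsg.pResidual p (H ⧸ (Subgroup.centralizer (S : Set G)).subgroupOf H) ≤ Sb := by
      refine Transfer.pResidual_le_of_isPGroup_quotient Sb ?_
      have h := (hP'.map π).map (QuotientGroup.mk' Sb)
      have hall : Pb.map (QuotientGroup.mk' Sb) = ⊤ := by
        have h1 := congrArg (Subgroup.map (QuotientGroup.mk' Sb)) htop
        rw [Subgroup.map_sup, Subgroup.map_top_of_surjective _ (QuotientGroup.mk'_surjective Sb),
          (Subgroup.map_eq_bot_iff _).2 (QuotientGroup.ker_mk' Sb).ge, bot_sup_eq] at h1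
        exact h1
      rw [hall] at h
      exact h.of_equiv Subgroup.topEquiv
    have hnpc := Transfer.hasNormalPComplement_of_le_frattini X
      (by rw [hX]; exact le_trans (inf_le_inf_right _ hres) hle)
    obtain ⟨Y, N, hNn, hNY⟩ := hnpc
    haveI := hNn
    have hNcop : ¬ p ∣ Nat.card N := Transfer.not_dvd_card_of_isComplement' Y N hNY
    set L := ((S.subgroupOf H) ⊓ N.comap π).map H.subtype with hL
    have hLbot : L = ⊥ := by
      refine hO L ?_ ?_ ?_
      · intro x hx
        obtain ⟨s, hs, rfl⟩ := Subgroup.mem_map.1 hx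
        exact hs.1
      · intro s hs
        haveI : ((S.subgroupOf H) ⊓ N.comap π).Normal := Subgroup.normal_inf_normal _ _
        have h := Subgroup.le_normalizer_map (H := ((S.subgroupOf H) ⊓ N.comap π)) H.subtype
        rw [Subgroup.normalizer_eq_top, ← MonoidHom.range_eq_map, Subgroup.range_subtype] at h
        exact h (Subgroup.mem_sup_left hs)
      · intro h
        refine hNcop (h.trans ?_)
        rw [hL, Subgroup.card_map_of_injective H.subtype_injective]
        refine Subgroup.card_dvd_of_injective ((π.comp (Subgroup.subtype _)).codRestrict N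
          fun s => s.2.2) ?_
        rw [injective_iff_map_eq_one]
        intro s hs
        exact Subtype.ext (hinj _ s.2.1 (congrArg Subtype.val hs))
    have hNS : N ⊓ Sb = ⊥ := by
      refine eq_bot_iff.2 fun x hx => ?_
      obtain ⟨s, hs, rfl⟩ := Subgroup.mem_map.1 hx.2
      have : (s : G) ∈ L := Subgroup.mem_map.2 ⟨s, ⟨hs, hx.1⟩, rfl⟩
      rw [hLbot, Subgroup.mem_bot] at this
      rw [Subgroup.mem_bot, show s = 1 from Subtype.ext this, map_one]
    have hN1 : N = ⊥ := by
      have h : Nat.card N ∣ Nat.card (Pb.map (QuotientGroup.mk' Sb)) := by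
        refine Subgroup.card_dvd_of_injective
          (((QuotientGroup.mk' Sb).comp N.subtype).codRestrict _ fun x => ?_) ?_
        · have h1 := congrArg (Subgroup.map (QuotientGroup.mk' Sb)) htop
          rw [Subgroup.map_sup, Subgroup.map_top_of_surjective _ (QuotientGroup.mk'_surjective Sb),
            (Subgroup.map_eq_bot_iff _).2 (QuotientGroup.ker_mk' Sb).ge, bot_sup_eq] at h1
          rw [h1]; trivial
        · rw [injective_iff_map_eq_one]
          intro x hx
          refine Subtype.ext (Subgroup.mem_bot.1 ?_)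
          rw [← hNS]
          exact ⟨x.2, (QuotientGroup.eq_one_iff _).1 (congrArg Subtype.val hx)⟩
      obtain ⟨m, hm⟩ := IsPGroup.iff_card.1 ((hP'.map π).map (QuotientGroup.mk' Sb))
      rw [hm] at h
      exact Subgroup.card_eq_one.1 (Nat.Coprime.eq_one_of_dvd
        ((Nat.Coprime.pow_left m (hp.out.coprime_iff_not_dvd.2 hNcop)).symm) h)
    rw [hN1, Subgroup.isComplement'_bot_left] at hNY
    have hSp : IsPGroup p (S.subgroupOf H) := by
      refine (Y.2.to_le (show Sb ≤ _ by rw [hNY]; exact le_top)).of_injective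
        ((π.comp (Subgroup.subtype _)).codRestrict Sb fun s => Subgroup.mem_map_of_mem π s.2) ?_
      rw [injective_iff_map_eq_one]
      intro s hs
      exact Subtype.ext (hinj _ s.2 (congrArg Subtype.val hs))
    have hSp' : IsPGroup p S := hSp.of_equiv (Subgroup.subgroupOfEquivOfLe le_sup_left)
    haveI : Nontrivial S := (Subgroup.nontrivial_iff_ne_bot S).2 hne
    haveI := hSp'.center_nontrivial
    obtain ⟨⟨z, hz⟩, hz1⟩ := exists_ne (1 : Subgroup.center S)
    refine hz1 (Subtype.ext (Subtype.ext (Subgroup.mem_bot.1 ?_)))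
    rw [← hZ]
    exact ⟨z.2, fun s hs => congrArg Subtype.val (Subgroup.mem_center_iff.1 hz ⟨s, hs⟩)⟩
  obtain ⟨M, hM, hSM⟩ : ∃ M : Subgroup Pb, IsCoatom M ∧ ¬ (Sb ⊓ Pb ≤ M.map Pb.subtype) := by
    by_contra hcon
    push Not at hcon
    refine hnotΦ fun x hx => Subgroup.mem_map.2 ⟨⟨x, hx.2⟩, ?_, rfl⟩
    simp only [frattini, Order.radical, Subgroup.mem_iInf]
    intro M hM
    obtain ⟨⟨w, hw⟩, hwM, hwx⟩ := Subgroup.mem_map.1 (hcon M hM hx)
    have hwx' : w = x := hwx
    subst hwx'
    exact hwM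
  obtain ⟨hMn, hMidx⟩ := Nilp.index_coatom_of_isPGroup (hP'.map π) hM
  haveI := hMn
  obtain ⟨x, hx, hxM⟩ := SetLike.not_le_iff_exists.1 hSM
  obtain ⟨a, ha, hax⟩ := Subgroup.mem_map.1 (hmeet hx)
  have hxb : (⟨x, hx.2⟩ : Pb) ∉ M := fun h => hxM (Subgroup.mem_map.2 ⟨_, h, rfl⟩)
  have hcard : Nat.card (Pb ⧸ M) = p := hMidx
  have hcyc := isCyclic_of_prime_card hcard
  have hgen : ∀ g : Pb ⧸ M, g ∈ Subgroup.zpowers (QuotientGroup.mk (⟨x, hx.2⟩ : Pb) : Pb ⧸ M) :=
    fun g => mem_zpowers_of_prime_card hcard (fun h => hxb ((QuotientGroup.eq_one_iff _).1 h))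
  have hgen2 : ∀ g : Multiplicative (ZMod p), g ∈ Subgroup.zpowers (Multiplicative.ofAdd (1 : ZMod p)) :=
    fun g => mem_zpowers_of_prime_card (p := p) (by simp) (by simp)
  let e : Pb ⧸ M ≃* Multiplicative (ZMod p) := mulEquivOfOrderOfEq hgen hgen2 (by
    rw [orderOf_eq_card_of_forall_mem_zpowers hgen, orderOf_eq_card_of_forall_mem_zpowers hgen2,
      hcard]
    simp)
  let ψ : P →* Pb := (π.comp (Subgroup.inclusion le_sup_right)).codRestrict Pb fun b =>
    Subgroup.mem_map.2 ⟨Subgroup.inclusion le_sup_right b, Subgroup.mem_subgroupOf.2 b.2, rfl⟩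
  refine ⟨e.toMonoidHom.comp ((QuotientGroup.mk' M).comp ψ), ⟨a, ha.1⟩, ha.2, ?_, fun b hb => ?_⟩
  · have : ψ ⟨a, ha.1⟩ = ⟨x, hx.2⟩ := Subtype.ext hax
    simp only [MonoidHom.comp_apply, this, QuotientGroup.mk'_apply]
    exact mulEquivOfOrderOfEq_apply_gen ..
  · have : ψ b = 1 := Subtype.ext ((QuotientGroup.eq_one_iff _).2 (Subgroup.mem_subgroupOf.2 hb))
    simp [this]

end Cfsg.Agent.Lib.MaxClassCentralizer
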