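import Cfsg.Agent.Lib.MaxClassCentralizer.Orbit
import Cfsg.Agent.Lib.MaxClassCentralizer.Factors
import Cfsg.Agent.Lib.Blocks.ClassAlgebra
import Mathlib

/-!
# Derived subgroup of index p² and a p-element with centralizer p-part p²
-/

set_option autoImplicit false

namespace Cfsg.Agent.Lib.MaxClassCentralizer

universe u

variable {G : Type u} [Group G] [Finite G] {p : ℕ} [hp : Fact p.Prime]

/-- Existence of the element, from an index-p abelian intersection with a normal subgroup. -/
theorem exists_elem_of_normal (P : Sylow p G) (N : Subgroup G) [N.Normal]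
    (hab : (commutator (P : Subgroup G)).index = p ^ 2)
    (hK : ∀ a ∈ N.subgroupOf (P : Subgroup G), ∀ b ∈ N.subgroupOf (P : Subgroup G), a * b = b * a)
    (hidx : (N.subgroupOf (P : Subgroup G)).index = p) :
    ∃ x : G, (∃ k : ℕ, orderOf x = p ^ k) ∧
      (Nat.card (Subgroup.centralizer ({x} : Set G))).factorization p = 2 := by
  haveI hKn : (N.subgroupOf (P : Subgroup G)).Normal := inferInstance
  obtain ⟨y, hy⟩ : ∃ y, y ∉ N.subgroupOf (P : Subgroup G) := by
    by_contra! h
    have hKt : N.subgroupOf (P : Subgroup G) = ⊤ := eq_top_iff.2 fun g _ => h g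
    rw [hKt, Subgroup.index_top] at hidx
    exact hp.out.ne_one hidx.symm
  have hP : IsPGroup p (P : Subgroup G) := P.2
  obtain ⟨k, hk⟩ := IsPGroup.iff_orderOf.1 hP y
  set x : G := (y : G) with hx
  have hxk : orderOf x = p ^ k := by rw [hx, Subgroup.orderOf_coe, hk]
  refine ⟨x, ⟨k, hxk⟩, ?_⟩
  set C := Subgroup.centralizer ({x} : Set G) with hC
  have hxC : x ∈ C := Subgroup.mem_centralizer_singleton_iff.2 rfl
  -- a lower bound
  have hlow : p ^ 2 ∣ Nat.card C := by
    rw [← card_centralizer_eq hK hidx hab hy]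
    refine Subgroup.card_dvd_of_injective
      (((Subgroup.subtype _).comp (Subgroup.centralizer ({y} : Set (P : Subgroup G))).subtype).codRestrict C
        fun c => ?_) ?_
    · exact Subgroup.mem_centralizer_singleton_iff.2
        (congrArg Subtype.val (Subgroup.mem_centralizer_singleton_iff.1 c.2))
    · intro a b h
      exact Subtype.ext (Subtype.ext (congrArg (fun t : C => (t : G)) h))
  -- an upper bound
  obtain ⟨R, hR⟩ := (IsPGroup.of_card (n := k) (by
      rw [Nat.card_zpowers, ← Subgroup.orderOf_coe, hxk]) :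
    IsPGroup p (Subgroup.zpowers (⟨x, hxC⟩ : C))).exists_le_sylow
  obtain ⟨Q, hQ⟩ := (R.2.map C.subtype).exists_le_sylow
  obtain ⟨g, hg⟩ := MulAction.exists_smul_eq G Q P
  have hmemP : ∀ r ∈ (R : Subgroup C), g * (r : G) * g⁻¹ ∈ (P : Subgroup G) := by
    intro r hr
    rw [← hg, Sylow.coe_subgroup_smul]
    exact Subgroup.mem_pointwise_smul_iff_inv_smul_mem.2 (by
      simpa [MulAut.smul_def, mul_assoc] using hQ (Subgroup.mem_map_of_mem C.subtype hr))
  set y' : (P : Subgroup G) := ⟨g * x * g⁻¹, hmemP ⟨x, hxC⟩ (hR (Subgroup.mem_zpowers _))⟩ with hy'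
  have hy'K : y' ∉ N.subgroupOf (P : Subgroup G) := by
    intro h
    apply hy
    rw [Subgroup.mem_subgroupOf, ← hx]
    have := Subgroup.Normal.conj_mem (inferInstance : N.Normal) _ (Subgroup.mem_subgroupOf.1 h) g⁻¹
    simpa [hy', mul_assoc] using this
  have hup : Nat.card R ∣ p ^ 2 := by
    rw [← card_centralizer_eq hK hidx hab hy'K]
    let f : R →* Subgroup.centralizer ({y'} : Set (P : Subgroup G)) :=
      { toFun := fun r => ⟨⟨g * ((r : C) : G) * g⁻¹, hmemP r r.2⟩, by
          rw [Subgroup.mem_centralizer_singleton_iff]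
          refine Subtype.ext ?_
          have h : ((r : C) : G) * x = x * (r : C) :=
            Subgroup.mem_centralizer_singleton_iff.1 (r : C).2
          show g * ((r : C) : G) * g⁻¹ * (g * x * g⁻¹) = g * x * g⁻¹ * (g * ((r : C) : G) * g⁻¹)
          calc g * ((r : C) : G) * g⁻¹ * (g * x * g⁻¹) = g * (((r : C) : G) * x) * g⁻¹ := by group
            _ = g * (x * ((r : C) : G)) * g⁻¹ := by rw [h]
            _ = _ := by group⟩
        map_one' := Subtype.ext (Subtype.ext (by simp))
        map_mul' := fun a b => Subtype.ext (Subtype.ext (by simp [mul_assoc])) }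
    refine Subgroup.card_dvd_of_injective f fun a b h => ?_
    have h' : g * ((a : C) : G) * g⁻¹ = g * ((b : C) : G) * g⁻¹ :=
      congrArg Subtype.val (congrArg Subtype.val h)
    exact Subtype.ext (Subtype.ext (mul_left_cancel (mul_right_cancel h')))
  rw [Sylow.card_eq_multiplicity] at hup
  exact le_antisymm ((Nat.pow_dvd_pow_iff_le_right hp.out.one_lt).1 hup)
    ((hp.out.pow_dvd_iff_le_factorization Nat.card_pos.ne').1 hlow)

/-- Two normalised commuting factors force a Sylow subgroup of order p². -/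
theorem card_eq_of_two (P : Sylow p G) (hab : (commutator (P : Subgroup G)).index = p ^ 2)
    (φ₁ φ₂ : (P : Subgroup G) →* Multiplicative (ZMod p)) (a₁ a₂ : (P : Subgroup G))
    (h11 : φ₁ a₁ = Multiplicative.ofAdd 1) (h22 : φ₂ a₂ = Multiplicative.ofAdd 1)
    (h12 : φ₁ a₂ = 1) (h21 : φ₂ a₁ = 1) (hc : a₁ * a₂ = a₂ * a₁) :
    Nat.card (P : Subgroup G) = p ^ 2 := by
  haveI : NeZero p := ⟨hp.out.ne_zero⟩
  set F := φ₁.prod φ₂ with hF
  set A := Subgroup.closure ({a₁, a₂} : Set (P : Subgroup G)) with hA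
  have hmem : ∀ u : Multiplicative (ZMod p), ∀ v : Multiplicative (ZMod p), (u, v) ∈ A.map F := by
    intro u v
    refine Subgroup.mem_map.2 ⟨a₁ ^ u.toAdd.val * a₂ ^ v.toAdd.val, Subgroup.mul_mem _
      (Subgroup.pow_mem _ (Subgroup.subset_closure (by simp)) _)
      (Subgroup.pow_mem _ (Subgroup.subset_closure (by simp)) _), ?_⟩
    simp [hF, MonoidHom.prod_apply, h11, h22, h12, h21, ← ofAdd_nsmul]
  have hle : commutator (P : Subgroup G) ≤ F.ker := Abelianization.commutator_subset_ker F
  have hker : F.ker.index = p ^ 2 := by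
    rw [Subgroup.index_ker, MonoidHom.range_eq_top.2 fun t => by
      obtain ⟨a, -, ha⟩ := Subgroup.mem_map.1 (hmem t.1 t.2)
      exact ⟨a, ha⟩]
    simp [Nat.card_prod, sq]
  have hkc : F.ker ≤ commutator (P : Subgroup G) := by
    have h := Subgroup.relIndex_mul_index hle
    rw [hker, hab, Nat.mul_eq_right (pow_ne_zero _ hp.out.ne_zero)] at h
    exact Subgroup.relIndex_eq_one.1 h
  have htop : A = ⊤ := eq_top_of_sup_commutator P.2 (eq_top_iff.2 fun g _ => by
    obtain ⟨a, ha, hag⟩ := Subgroup.mem_map.1 (hmem (F g).1 (F g).2)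
    rw [show g = a * (a⁻¹ * g) by group]
    refine Subgroup.mul_mem_sup ha (hkc (MonoidHom.mem_ker.2 ?_))
    rw [map_mul, map_inv, hag, inv_mul_cancel])
  haveI := Subgroup.isMulCommutative_closure (k := ({a₁, a₂} : Set (P : Subgroup G))) (by
    rintro _ (rfl | rfl) _ (rfl | rfl) <;> first | rfl | exact hc | exact hc.symm)
  have hbot : commutator (P : Subgroup G) = ⊥ := by
    rw [commutator_eq_bot_iff_center_eq_top]
    exact eq_top_iff.2 fun a _ => Subgroup.mem_center_iff.2 fun b => congrArg Subtype.val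
      (mul_comm' (⟨b, hA ▸ htop ▸ Subgroup.mem_top b⟩ : Subgroup.closure ({a₁, a₂} : Set (P : Subgroup G)))
        ⟨a, hA ▸ htop ▸ Subgroup.mem_top a⟩)
  rw [hbot, Subgroup.index_bot] at hab
  exact hab

/-- A moved factor. -/
theorem exists_elem_of_orbit (P : Sylow p G) (hcore : Cfsg.pPrimeCore p G = ⊥)
    (hab : (commutator (P : Subgroup G)).index = p ^ 2) (N : Subgroup G) [N.Normal]
    (hmin : ∀ M : Subgroup G, M.Normal → M ≤ N → M = ⊥ ∨ M = N) (hna : ¬ IsMulCommutative N)
    (T : Subgroup G) (hT : IsFactor N T)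
    (hPT : ¬ (P : Subgroup G) ≤ Subgroup.normalizer (T : Set G)) :
    ∃ x : G, (∃ k : ℕ, orderOf x = p ^ k) ∧
      (Nat.card (Subgroup.centralizer ({x} : Set G))).factorization p = 2 := by
  classical
  have hP : IsPGroup p (P : Subgroup G) := P.2
  set K := N.subgroupOf (P : Subgroup G) with hKdef
  haveI hKn : K.Normal := inferInstance
  have hN0 : N ≠ ⊥ := fun h => hna (by subst h; exact ⟨⟨fun a b => Subsingleton.elim _ _⟩⟩)
  -- `K` is not in the derived subgroup
  have hKnot : ¬ K ≤ commutator (P : Subgroup G) := by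
    have hZN : N ⊓ Subgroup.centralizer (N : Set G) = ⊥ := by
      haveI : (Subgroup.centralizer (N : Set G)).Normal := Subgroup.normal_centralizer
      refine (hmin _ inferInstance inf_le_left).resolve_right fun h => hna ⟨⟨fun a b => ?_⟩⟩
      have ha : (a : G) ∈ N ⊓ Subgroup.centralizer (N : Set G) := h.symm ▸ a.2
      exact Subtype.ext (Subgroup.mem_centralizer_iff.1 ha.2 _ b.2).symm
    have hON : ∀ L : Subgroup G, L ≤ N → N ≤ Subgroup.normalizer (L : Set G) →
        ¬ p ∣ Nat.card L → L = ⊥ := by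
      intro L hL hNL hLp
      haveI : (L.subgroupOf N).Normal := Subgroup.normal_subgroupOf_of_le_normalizer hNL
      have hcard := Nat.card_congr (Subgroup.subgroupOfEquivOfLe hL).toEquiv
      have hle : L.subgroupOf N ≤ Cfsg.pPrimeCore p N := PSolvable.le_pPrimeCore
        ((hp.out.coprime_iff_not_dvd).2 (hcard ▸ hLp)).symm
      rw [pPrimeCore_eq_bot_of_normal hcore N, le_bot_iff] at hle
      rw [hle, Subgroup.card_bot] at hcard
      exact Subgroup.card_eq_one.1 hcard.symm
    have hsN : ¬ p ∣ (P : Subgroup G).relIndex N := by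
      intro h
      rw [← relIndex_sup_eq (P : Subgroup G) N (by rw [Subgroup.normalizer_eq_top]; exact le_top)] at h
      exact P.not_dvd_index (h.trans ⟨_, (Subgroup.relIndex_mul_index le_sup_right).symm⟩)
    obtain ⟨ψ, a, ha, hψa, -⟩ := exists_functional (P : Subgroup G) N hP
      (by rw [Subgroup.normalizer_eq_top]; exact le_top) hsN hZN hN0 hON
    intro hle
    have h1 : ψ a = 1 :=
      Abelianization.commutator_subset_ker ψ (hle (Subgroup.mem_subgroupOf.2 ha))
    rw [hψa] at h1
    exact absurd h1 (by simp)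
  have hKt : K ≠ ⊤ := fun h => hPT (fun g hg =>
    hT.2.1 (Subgroup.mem_subgroupOf.1 (h ▸ Subgroup.mem_top (⟨g, hg⟩ : (P : Subgroup G)))))
  have hidx := index_eq_prime hP hab hKnot hKt
  refine exists_elem_of_normal P N hab ?_ hidx
  -- the functional on `K`
  obtain ⟨hs, -, hz, ho⟩ := factor_props hcore P N hmin hna hT
  obtain ⟨φ₀, a₀, ha₀, hφa, hφk⟩ := exists_functional ((P : Subgroup G) ⊓ N) T
    (hP.to_le inf_le_left) (inf_le_right.trans hT.2.1) hs hz hT.2.2.1 ho
  let ι : K →* ((P : Subgroup G) ⊓ N : Subgroup G) :=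
    ((P : Subgroup G).subtype.comp K.subtype).codRestrict _ fun k =>
      ⟨(k : (P : Subgroup G)).2, Subgroup.mem_subgroupOf.1 k.2⟩
  let aK : K := ⟨⟨a₀, a₀.2.1⟩, a₀.2.2⟩
  have hout : ∀ g : (P : Subgroup G), g ∉ K →
      T.map (MulAut.conj (g : G)).toMonoidHom ≠ T := by
    intro g hg h
    refine hPT ?_
    have hnorm : (g : G) ∈ Subgroup.normalizer (T : Set G) :=
      Subgroup.mem_normalizer_iff_map_conj_eq.2 h
    have htop : ((Subgroup.normalizer (T : Set G)).subgroupOf (P : Subgroup G)) = ⊤ := by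
      rw [eq_top_iff, ← sup_zpowers_eq_top hidx hg, sup_le_iff, Subgroup.zpowers_le]
      exact ⟨fun u hu => hT.2.1 (Subgroup.mem_subgroupOf.1 hu), hnorm⟩
    exact Subgroup.subgroupOf_eq_top.1 htop
  refine isMulCommutative_of_orbit hP hidx hab (φ₀.comp ι) aK ?_ ?_ ?_
  · have : ι aK = a₀ := Subtype.ext rfl
    simp [this, hφa]
  · intro g hg
    have hc := commute_of_ne hT (isFactor_map_conj hT (g : G)) (hout g hg).symm
      (Subgroup.mem_map_of_mem (MulAut.conj (g : G)).toMonoidHom ha₀)
    show (aK : (P : Subgroup G)) * (g * aK * g⁻¹) = g * aK * g⁻¹ * aK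
    exact Subtype.ext (Subgroup.mem_centralizer_iff.1 hc (a₀ : G) ha₀)
  · intro g hg
    refine hφk _ ?_
    have hc := commute_of_ne hT (isFactor_map_conj hT (g : G)) (hout g hg).symm
      (Subgroup.mem_map_of_mem (MulAut.conj (g : G)).toMonoidHom ha₀)
    exact hc

theorem exists_elem (P : Sylow p G) (hcore : Cfsg.pPrimeCore p G = ⊥)
    (hcore' : (⁅(P : Subgroup G), (P : Subgroup G)⁆).normalCore = ⊥)
    (hnas : ¬ ∃ S : Subgroup G, S.Normal ∧ IsSimpleGroup S ∧ ¬ IsMulCommutative S ∧
      Subgroup.centralizer (S : Set G) = ⊥)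
    (hab : (commutator (P : Subgroup G)).index = p ^ 2) :
    ∃ x : G, (∃ k : ℕ, orderOf x = p ^ k) ∧
      (Nat.card (Subgroup.centralizer ({x} : Set G))).factorization p = 2 := by
  classical
  have hP : IsPGroup p (P : Subgroup G) := P.2
  -- the case of a Sylow subgroup of order `p²`
  by_cases hc2 : Nat.card (P : Subgroup G) = p ^ 2
  · refine ⟨1, ⟨0, by simp⟩, ?_⟩
    rw [show Subgroup.centralizer ({1} : Set G) = ⊤ from
      eq_top_iff.2 fun g _ => Subgroup.mem_centralizer_singleton_iff.2 (by simp), Subgroup.card_top]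
    rw [Sylow.card_eq_multiplicity] at hc2
    exact Nat.pow_right_injective hp.out.two_le hc2
  have hG : (⊤ : Subgroup G) ≠ ⊥ := by
    intro h
    have h1 : Nat.card G = 1 := by rw [← Subgroup.card_top (G := G), h, Subgroup.card_bot]
    have h2 := (Subgroup.index_dvd_card (commutator (P : Subgroup G))).trans
      (Subgroup.card_subgroup_dvd_card (P : Subgroup G))
    rw [hab, h1, Nat.dvd_one, Nat.pow_eq_one] at h2
    exact h2.elim hp.out.ne_one (by simp)
  by_cases habn : ∃ N : Subgroup G, N.Normal ∧ N ≠ ⊥ ∧ IsMulCommutative N ∧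
      ∀ M : Subgroup G, M.Normal → M ≤ N → M = ⊥ ∨ M = N
  · -- an abelian minimal normal subgroup
    obtain ⟨N, hNn, hN0, hNc, hmin⟩ := habn
    haveI := hNn
    have hNp : IsPGroup p N := by
      rcases Primitive62.minimal_normal_cases N hN0 hmin with ⟨-, r, hr, hrn⟩ | ⟨S, iS, iSs, iSf, k, hk, hS, ⟨e⟩⟩
      · haveI : Fact r.Prime := ⟨hr⟩
        have hNr : IsPGroup r N := fun n => ⟨1, Subtype.ext (by simpa using hrn n n.2)⟩
        by_cases hrp : r = p
        · exact hrp ▸ hNr
        · refine absurd (le_bot_iff.1 (hcore ▸ PSolvable.le_pPrimeCore ?_)) hN0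
          obtain ⟨j, hj⟩ := IsPGroup.iff_card.1 hNr
          rw [hj]
          exact Nat.Coprime.pow_left j ((Nat.coprime_primes hr hp.out).2 hrp)
      · refine absurd ⟨⟨fun a b => ?_⟩⟩ hS
        have := congrFun (congrArg e (mul_comm' (e.symm fun _ => a) (e.symm fun _ => b))) ⟨0, hk⟩
        simpa using this
    have hNP : N ≤ (P : Subgroup G) := by
      obtain ⟨Q, hQ⟩ := hNp.exists_le_sylow
      obtain ⟨g, hg⟩ := MulAction.exists_smul_eq G Q P
      intro n hn
      rw [← hg, Sylow.coe_subgroup_smul, Subgroup.mem_pointwise_smul_iff_inv_smul_mem]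
      refine hQ ?_
      simp only [MulAut.smul_def, ← map_inv, MulAut.conj_apply]
      exact hNn.conj_mem n hn _
    have hKc : ∀ a ∈ N.subgroupOf (P : Subgroup G), ∀ b ∈ N.subgroupOf (P : Subgroup G),
        a * b = b * a := fun a ha b hb =>
      Subtype.ext (show (a : G) * b = b * a from
        congrArg Subtype.val (mul_comm' (⟨a, ha⟩ : N) ⟨b, hb⟩))
    refine exists_elem_of_normal P N hab hKc (index_eq_prime hP hab (fun hle => hN0 ?_) ?_)
    · rw [← le_bot_iff, ← hcore', Subgroup.normal_le_normalCore]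
      rw [← Subgroup.map_subtype_commutator]
      intro n hn
      exact Subgroup.mem_map.2 ⟨⟨n, hNP hn⟩, hle (Subgroup.mem_subgroupOf.2 hn), rfl⟩
    · intro ht
      have hbot : commutator (P : Subgroup G) = ⊥ := by
        rw [commutator_eq_bot_iff_center_eq_top]
        exact eq_top_iff.2 fun a _ => Subgroup.mem_center_iff.2 fun b =>
          hKc b (ht ▸ Subgroup.mem_top b) a (ht ▸ Subgroup.mem_top a)
      rw [hbot, Subgroup.index_bot] at hab
      exact hc2 hab
  push Not at habn
  -- all minimal normal subgroups are non-abelian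
  obtain ⟨N, hNn, hN0, -, hmin⟩ := Primitive62.exists_minimal_normal (⊤ : Subgroup G) hG
  haveI := hNn
  have hna : ¬ IsMulCommutative N := fun h => by
    obtain ⟨M, hM, hMN, h0, h1⟩ := habn N hNn hN0 h
    exact (hmin M hM hMN).elim h0 h1
  have hPtop : ∀ T : Subgroup G, T.Normal → (P : Subgroup G) ≤ Subgroup.normalizer (T : Set G) :=
    fun T hT => by haveI := hT; rw [Subgroup.normalizer_eq_top]; exact le_top
  -- a pair of commuting normalised subgroups is impossible
  have pair : ∀ T₁ T₂ : Subgroup G,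
      (P : Subgroup G) ≤ Subgroup.normalizer (T₁ : Set G) →
      (P : Subgroup G) ≤ Subgroup.normalizer (T₂ : Set G) →
      (∃ M : Subgroup G, M.Normal ∧ (∀ M' : Subgroup G, M'.Normal → M' ≤ M → M' = ⊥ ∨ M' = M) ∧
        ¬ IsMulCommutative M ∧ IsFactor M T₁) →
      (∃ M : Subgroup G, M.Normal ∧ (∀ M' : Subgroup G, M'.Normal → M' ≤ M → M' = ⊥ ∨ M' = M) ∧
        ¬ IsMulCommutative M ∧ IsFactor M T₂) →
      T₂ ≤ Subgroup.centralizer (T₁ : Set G) → False := by
    rintro T₁ T₂ hP1 hP2 ⟨M1, hM1n, hM1, hM1c, hT1⟩ ⟨M2, hM2n, hM2, hM2c, hT2⟩ hcom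
    haveI := hM1n
    haveI := hM2n
    obtain ⟨-, hs1, hz1, ho1⟩ := factor_props hcore P M1 hM1 hM1c hT1
    obtain ⟨-, hs2, hz2, ho2⟩ := factor_props hcore P M2 hM2 hM2c hT2
    obtain ⟨φ₁, a₁, ha₁, h11, hk1⟩ := exists_functional (P : Subgroup G) T₁ hP hP1 hs1 hz1 hT1.2.2.1 ho1
    obtain ⟨φ₂, a₂, ha₂, h22, hk2⟩ := exists_functional (P : Subgroup G) T₂ hP hP2 hs2 hz2 hT2.2.2.1 ho2
    have hcom' : T₁ ≤ Subgroup.centralizer (T₂ : Set G) := fun a ha b hb =>
      (Subgroup.mem_centralizer_iff.1 (hcom hb) a ha).symm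
    exact hc2 (card_eq_of_two P hab φ₁ φ₂ a₁ a₂ h11 h22 (hk1 a₂ (hcom ha₂)) (hk2 a₁ (hcom' ha₁))
      (Subtype.ext (Subgroup.mem_centralizer_iff.1 (hcom ha₂) _ ha₁)))
  by_cases hmove : ∃ M T : Subgroup G, M.Normal ∧
      (∀ M' : Subgroup G, M'.Normal → M' ≤ M → M' = ⊥ ∨ M' = M) ∧ ¬ IsMulCommutative M ∧
      IsFactor M T ∧ ¬ (P : Subgroup G) ≤ Subgroup.normalizer (T : Set G)
  · obtain ⟨M, T, hMn, hMmin, hMc, hT, hPT⟩ := hmove
    haveI := hMn
    exact exists_elem_of_orbit P hcore hab M hMmin hMc T hT hPT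
  push Not at hmove
  obtain ⟨T, hT⟩ := exists_isFactor N hN0
  by_cases hTN : T = N
  · subst hTN
    have hsimple : IsSimpleGroup T := by
      haveI : Nontrivial T := (Subgroup.nontrivial_iff_ne_bot T).2 hN0
      refine ⟨fun M hM => ?_⟩
      have hMn : T ≤ Subgroup.normalizer ((M.map T.subtype : Subgroup G) : Set G) := by
        have h := Subgroup.le_normalizer_map (H := M) T.subtype
        rwa [Subgroup.normalizer_eq_top, ← MonoidHom.range_eq_map, Subgroup.range_subtype] at h
      rcases hT.2.2.2 _ (Subgroup.map_subtype_le M) hMn with h | h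
      · exact Or.inl ((Subgroup.map_eq_bot_iff_of_injective M T.subtype_injective).1 h)
      · refine Or.inr (Subgroup.map_injective T.subtype_injective ?_)
        rw [h, ← MonoidHom.range_eq_map, Subgroup.range_subtype]
    have hC : Subgroup.centralizer (T : Set G) ≠ ⊥ := fun h => hnas ⟨T, hNn, hsimple, hna, h⟩
    haveI : (Subgroup.centralizer (T : Set G)).Normal := Subgroup.normal_centralizer
    obtain ⟨N', hN'n, hN'0, hN'le, hmin'⟩ :=
      Primitive62.exists_minimal_normal (Subgroup.centralizer (T : Set G)) hC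
    haveI := hN'n
    have hna' : ¬ IsMulCommutative N' := fun h => by
      obtain ⟨M, hM, hMN, h0, h1⟩ := habn N' hN'n hN'0 h
      exact (hmin' M hM hMN).elim h0 h1
    obtain ⟨T', hT'⟩ := exists_isFactor N' hN'0
    exact (pair T T' (hmove T T hNn hmin hna hT) (hmove N' T' hN'n hmin' hna' hT')
      ⟨T, hNn, hmin, hna, hT⟩ ⟨N', hN'n, hmin', hna', hT'⟩ (hT'.1.trans hN'le)).elim
  · obtain ⟨g, hg⟩ : ∃ g : G, T.map (MulAut.conj g).toMonoidHom ≠ T := by
      by_contra! h
      have hTn : T.Normal := ⟨fun n hn g => by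
        have := Subgroup.mem_map_of_mem (MulAut.conj g).toMonoidHom hn
        rw [h g] at this
        exact this⟩
      exact (hmin T hTn hT.1).elim hT.2.2.1 hTN
    exact (pair T (T.map (MulAut.conj g).toMonoidHom) (hmove N T hNn hmin hna hT)
      (hmove N _ hNn hmin hna (isFactor_map_conj hT g))
      ⟨N, hNn, hmin, hna, hT⟩ ⟨N, hNn, hmin, hna, isFactor_map_conj hT g⟩
      (commute_of_ne hT (isFactor_map_conj hT g) (Ne.symm hg))).elim

/-- The converse. -/
theorem index_commutator_eq (P : Sylow p G) (hbig : p ^ 2 ∣ Nat.card G) {x : G}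
    (hxp : ∃ k : ℕ, orderOf x = p ^ k)
    (hx : (Nat.card (Subgroup.centralizer ({x} : Set G))).factorization p = 2) :
    (commutator (P : Subgroup G)).index = p ^ 2 := by
  classical
  obtain ⟨k, hk⟩ := hxp
  obtain ⟨Q, hQ⟩ := (IsPGroup.of_card (n := k) (by rw [Nat.card_zpowers, hk]) :
    IsPGroup p (Subgroup.zpowers x)).exists_le_sylow
  obtain ⟨g, hg⟩ := MulAction.exists_smul_eq G Q P
  have hyP : g * x * g⁻¹ ∈ (P : Subgroup G) := by
    rw [← hg, Sylow.coe_subgroup_smul]
    exact Subgroup.mem_pointwise_smul_iff_inv_smul_mem.2 (by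
      simpa [MulAut.smul_def, mul_assoc] using hQ (Subgroup.mem_zpowers x))
  set y : (P : Subgroup G) := ⟨g * x * g⁻¹, hyP⟩ with hy
  set C := Subgroup.centralizer ({y} : Set (P : Subgroup G)) with hC
  have hCle : Nat.card C ≤ p ^ 2 := by
    have hd : Nat.card C ∣ Nat.card (Subgroup.centralizer ({x} : Set G)) := by
      let f : C →* Subgroup.centralizer ({x} : Set G) :=
        { toFun := fun c => ⟨g⁻¹ * ((c : (P : Subgroup G)) : G) * g, by
            rw [Subgroup.mem_centralizer_singleton_iff]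
            have h : ((c : (P : Subgroup G)) : G) * (g * x * g⁻¹) =
                g * x * g⁻¹ * ((c : (P : Subgroup G)) : G) :=
              congrArg Subtype.val (Subgroup.mem_centralizer_singleton_iff.1 c.2)
            calc g⁻¹ * ((c : (P : Subgroup G)) : G) * g * x
                = g⁻¹ * (((c : (P : Subgroup G)) : G) * (g * x * g⁻¹)) * g := by group
              _ = g⁻¹ * (g * x * g⁻¹ * ((c : (P : Subgroup G)) : G)) * g := by rw [h]
              _ = _ := by group⟩
          map_one' := Subtype.ext (by simp)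
          map_mul' := fun a b => Subtype.ext (by simp [mul_assoc]) }
      refine Subgroup.card_dvd_of_injective f fun a b h => ?_
      exact Subtype.ext (Subtype.ext (mul_left_cancel (mul_right_cancel (congrArg Subtype.val h))))
    obtain ⟨n, hn⟩ := IsPGroup.iff_card.1 ((P.2 : IsPGroup p (P : Subgroup G)).to_subgroup C)
    rw [hn] at hd ⊢
    exact Nat.pow_le_pow_right hp.out.pos
      (hx ▸ (hp.out.pow_dvd_iff_le_factorization Nat.card_pos.ne').1 hd)
  -- the class of `y` lies in a coset of the derived subgroup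
  have hclass : Nat.card {z // IsConj y z} ≤ Nat.card (commutator (P : Subgroup G)) := by
    refine Nat.card_le_card_of_injective (fun z => ⟨z.1 * y⁻¹, ?_⟩) fun a b h =>
      Subtype.ext (mul_right_cancel (congrArg Subtype.val h))
    obtain ⟨c, hc⟩ := isConj_iff.1 z.2
    rw [← hc]
    exact Subgroup.commutator_mem_commutator (Subgroup.mem_top c) (Subgroup.mem_top y)
  have hci : Nat.card {z // IsConj y z} = C.index := Blocks.natCard_isConj y
  have hle : (commutator (P : Subgroup G)).index ≤ p ^ 2 := by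
    have h1 := Subgroup.card_mul_index C
    have h2 := Subgroup.card_mul_index (commutator (P : Subgroup G))
    refine Nat.le_of_mul_le_mul_left ?_ (Nat.card_pos (α := commutator (P : Subgroup G)))
    rw [h2, ← h1, mul_comm]
    exact Nat.mul_le_mul (hci ▸ hclass) hCle
  obtain ⟨n, hn⟩ := (IsPGroup.iff_card.1 P.2)
  obtain ⟨i, -, hi⟩ := (Nat.dvd_prime_pow hp.out).1
    (hn ▸ Subgroup.index_dvd_card (commutator (P : Subgroup G)))
  have hn2 : 2 ≤ n := by
    rw [Sylow.card_eq_multiplicity] at hn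
    rw [← Nat.pow_right_injective hp.out.two_le hn]
    exact (hp.out.pow_dvd_iff_le_factorization Nat.card_pos.ne').1 hbig
  have hi2 : i ≤ 2 := (Nat.pow_le_pow_iff_right hp.out.one_lt).1 (hi ▸ hle)
  rw [hi]
  interval_cases i
  · exfalso
    have htop := eq_top_of_sup_commutator P.2 (H := (⊥ : Subgroup (P : Subgroup G)))
      (by rw [bot_sup_eq]; exact Subgroup.index_eq_one.1 (by simpa using hi))
    have : Nat.card (P : Subgroup G) = 1 := by
      rw [← Subgroup.card_top (G := (P : Subgroup G)), ← htop, Subgroup.card_bot]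
    rw [hn, Nat.pow_eq_one] at this
    exact this.elim hp.out.ne_one (by omega)
  · exfalso
    have := card_eq_of_commutator_index P.2 (by simpa using hi)
    rw [hn] at this
    nth_rw 2 [← pow_one p] at this
    have := Nat.pow_right_injective hp.out.two_le this
    omega
  · rfl

end Cfsg.Agent.Lib.MaxClassCentralizer
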