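import Cfsg.Agent.Lib.MaxClassCentralizer.PGroups
import Mathlib

/-!
# An index-p subgroup generated by an orbit of commuting elements
-/

set_option autoImplicit false

namespace Cfsg.Agent.Lib.MaxClassCentralizer

open scoped commutatorElement

variable {Q : Type*} [Group Q] [Finite Q] {p : ℕ} [hp : Fact p.Prime]

theorem isMulCommutative_of_orbit (hQ : IsPGroup p Q) {K : Subgroup Q} [K.Normal]
    (hidx : K.index = p) (hab : (commutator Q).index = p ^ 2)
    (φ : K →* Multiplicative (ZMod p)) (a : K) (hφa : φ a = Multiplicative.ofAdd 1)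
    (hcomm : ∀ g : Q, g ∉ K → Commute (a : Q) (g * a * g⁻¹))
    (hvan : ∀ g : Q, g ∉ K → φ (MulAut.conjNormal g a) = 1) :
    ∀ u ∈ K, ∀ v ∈ K, u * v = v * u := by
  classical
  haveI : NeZero p := ⟨hp.out.ne_zero⟩
  obtain ⟨y, hy⟩ : ∃ y, y ∉ K := by
    by_contra! h
    have hKt : K = ⊤ := eq_top_iff.2 fun g _ => h g
    rw [hKt, Subgroup.index_top] at hidx
    exact hp.out.ne_one hidx.symm
  have hcard : Nat.card (Q ⧸ K) = p := hidx
  have hy1 : (y : Q ⧸ K) ≠ 1 := mt (QuotientGroup.eq_one_iff y).1 hy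
  have hyo : orderOf (y : Q ⧸ K) = p :=
    orderOf_eq_prime (by rw [← hcard]; exact pow_card_eq_one') hy1
  have hgen : ∀ g : Q, ∃ k : ZMod p, (y ^ k.val)⁻¹ * g ∈ K := by
    intro g
    obtain ⟨n, hn⟩ := (Submonoid.mem_powers_iff _ _).1
      ((mem_powers_iff_mem_zpowers).2 (mem_zpowers_of_prime_card hcard (g := (y : Q ⧸ K))
        (g' := (g : Q ⧸ K)) hy1))
    refine ⟨(n : ZMod p), ?_⟩
    rw [← QuotientGroup.eq, QuotientGroup.mk_pow, ← hn, ZMod.val_natCast]
    conv_rhs => rw [← pow_mod_orderOf, hyo]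
  have hcls : ∀ k l : ZMod p, (y ^ k.val)⁻¹ * y ^ l.val ∈ K → k = l := by
    intro k l h
    rw [← QuotientGroup.eq, QuotientGroup.mk_pow, QuotientGroup.mk_pow, pow_inj_mod, hyo,
      Nat.mod_eq_of_lt (ZMod.val_lt k), Nat.mod_eq_of_lt (ZMod.val_lt l)] at h
    exact ZMod.val_injective p h
  -- conjugation inside `K` does not matter
  have hinv : ∀ (m : K) (u : K), φ (MulAut.conjNormal (m : Q) u) = φ u := by
    intro m u
    rw [show MulAut.conjNormal (m : Q) u = m * u * m⁻¹ from Subtype.ext (by simp), map_mul,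
      map_mul, map_inv, mul_right_comm, mul_inv_cancel, one_mul]
  let ψ : Q → (K →* Multiplicative (ZMod p)) := fun g =>
    φ.comp (MulAut.conjNormal g⁻¹ : MulAut K).toMonoidHom
  have hψ : ∀ g u, ψ g u = φ (MulAut.conjNormal g⁻¹ u) := fun _ _ => rfl
  have hψcls : ∀ g h : Q, g⁻¹ * h ∈ K → ψ g = ψ h := by
    intro g h hgh
    refine MonoidHom.ext fun u => ?_
    rw [hψ, hψ]
    have h2 := hinv ⟨g⁻¹ * h, hgh⟩ (MulAut.conjNormal h⁻¹ u)
    rw [← h2]
    congr 1
    refine Subtype.ext ?_
    simp only [MulAut.conjNormal_apply]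
    group
  set c : ZMod p → K := fun k => MulAut.conjNormal (y ^ k.val) a with hc
  have hcv : ∀ k l, ψ (y ^ k.val) (c l) =
      if k = l then Multiplicative.ofAdd 1 else 1 := by
    intro k l
    rw [hψ, hc]
    have e : MulAut.conjNormal (y ^ k.val)⁻¹ (MulAut.conjNormal (y ^ l.val) a) =
        MulAut.conjNormal ((y ^ k.val)⁻¹ * y ^ l.val) a := by
      rw [map_mul]; rfl
    rw [e]
    split_ifs with h
    · subst h
      rw [inv_mul_cancel, map_one]
      exact hφa
    · exact hvan _ fun hmem => h (hcls k l hmem)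
  -- the kernel of all the conjugates of `φ`
  set E : Subgroup K := ⨅ g : Q, (ψ g).ker with hE
  have hEmem : ∀ u : K, u ∈ E ↔ ∀ g, ψ g u = 1 := fun u => by simp [hE, Subgroup.mem_iInf]
  set A : Subgroup K := Subgroup.closure (Set.range c) with hA
  have hAE : A ⊔ E = ⊤ := by
    let F : K →* (ZMod p → Multiplicative (ZMod p)) :=
      MonoidHom.mk' (fun u k => ψ (y ^ k.val) u) fun u v => funext fun k => map_mul _ u v
    have hsurj : A.map F = ⊤ := by
      refine eq_top_iff.2 fun f _ => Subgroup.pi_mem_of_mulSingle_mem f fun l => ?_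
      refine Subgroup.mem_map.2 ⟨c l ^ (Multiplicative.toAdd (f l)).val, Subgroup.pow_mem _
        (show c l ∈ A from Subgroup.subset_closure (show c l ∈ Set.range c from ⟨l, rfl⟩)) _, ?_⟩
      funext k
      show ψ (y ^ k.val) (c l ^ _) = _
      rw [map_pow, hcv]
      by_cases h : k = l
      · subst h
        rw [if_pos rfl, Pi.mulSingle_eq_same, ← ofAdd_nsmul, nsmul_one, ZMod.natCast_val,
          ZMod.cast_id', id, ofAdd_toAdd]
      · rw [if_neg h, one_pow, Pi.mulSingle_eq_of_ne h]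
    refine eq_top_iff.2 fun u _ => ?_
    obtain ⟨v, hv, hvu⟩ := Subgroup.mem_map.1 (hsurj ▸ Subgroup.mem_top (F u) : F u ∈ A.map F)
    rw [show u = v * (v⁻¹ * u) by group]
    refine Subgroup.mul_mem_sup hv ((hEmem _).2 fun g => ?_)
    obtain ⟨k, hk⟩ := hgen g
    rw [← hψcls _ _ hk, map_mul, map_inv]
    have : ψ (y ^ k.val) v = ψ (y ^ k.val) u := congrFun hvu k
    rw [this, inv_mul_cancel]
  -- pass to the quotient by the derived subgroup of `K`
  set D : Subgroup Q := (commutator K).map K.subtype with hD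
  have hDK : D ≤ K := Subgroup.map_subtype_le _
  haveI : D.Normal := ConjAct.normal_of_characteristic_of_normal
  set π := QuotientGroup.mk' D with hπ
  have hπs : Function.Surjective π := QuotientGroup.mk'_surjective D
  set Kb := K.map π with hKb
  haveI : Kb.Normal := Subgroup.Normal.map inferInstance π hπs
  have hcomap : Kb.comap π = K := by
    rw [hKb, Subgroup.comap_map_eq, hπ, QuotientGroup.ker_mk', sup_eq_left.2 hDK]
  have hπK : ∀ u, π u ∈ Kb ↔ u ∈ K := fun u => by
    rw [← Subgroup.mem_comap, hcomap]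
  have hKbab : ∀ u ∈ Kb, ∀ v ∈ Kb, u * v = v * u := by
    rintro _ ⟨u, hu, rfl⟩ _ ⟨v, hv, rfl⟩
    rw [← map_mul, ← map_mul, hπ, QuotientGroup.mk'_apply, QuotientGroup.mk'_apply,
      QuotientGroup.eq]
    refine Subgroup.mem_map.2 ⟨⁅(⟨v, hv⟩ : K)⁻¹, (⟨u, hu⟩ : K)⁻¹⁆,
      Subgroup.commutator_mem_commutator (Subgroup.mem_top _) (Subgroup.mem_top _), ?_⟩
    simp [commutatorElement_def]
    group
  have hidxb : Kb.index = p := by
    rw [← hidx, ← hcomap, Subgroup.index_comap_of_surjective _ hπs]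
  have hDc : D ≤ commutator Q := by
    rw [hD, commutator_def, commutator_def, Subgroup.map_commutator]
    exact Subgroup.commutator_mono le_top le_top
  have habb : (commutator (Q ⧸ D)).index = p ^ 2 := by
    rw [show commutator (Q ⧸ D) = (commutator Q).map π by
        rw [commutator_def, commutator_def, Subgroup.map_commutator,
          Subgroup.map_top_of_surjective _ hπs],
      Subgroup.index_map, hπ, QuotientGroup.ker_mk', sup_eq_left.2 hDc,
      MonoidHom.range_eq_top.2 (QuotientGroup.mk'_surjective D), Subgroup.index_top, mul_one, hab]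
  have hW := card_inf_centralizer_eq hKbab hidxb habb (y := π y) (by rw [hπK]; exact hy)
  -- `E` is contained in the derived subgroup
  have hDE : ∀ u : K, u ∈ commutator K → u ∈ E := fun u hu =>
    (hEmem u).2 fun g => Abelianization.commutator_subset_ker (ψ g) hu
  have hED : E ≤ commutator K := by
    by_contra hcon
    obtain ⟨u, hu, hun⟩ := SetLike.not_le_iff_exists.1 hcon
    set Eb := (E.map K.subtype).map π with hEb
    haveI : (E.map K.subtype).Normal := by
      refine ⟨fun z hz g => ?_⟩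
      obtain ⟨v, hv, rfl⟩ := Subgroup.mem_map.1 hz
      refine Subgroup.mem_map.2 ⟨MulAut.conjNormal g v, (hEmem _).2 fun g' => ?_, by simp⟩
      have h := (hEmem v).1 hv (g⁻¹ * g')
      rw [hψ] at h ⊢
      rw [← h]
      congr 1
      exact Subtype.ext (by simp [mul_assoc])
    haveI : Eb.Normal := Subgroup.Normal.map inferInstance π hπs
    have hEbne : Eb ≠ ⊥ := fun h => hun (by
      have h1 : π (u : Q) = 1 := Subgroup.mem_bot.1
        (h ▸ Subgroup.mem_map_of_mem π (Subgroup.mem_map_of_mem K.subtype hu))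
      obtain ⟨v, hv, hvu⟩ := Subgroup.mem_map.1 ((QuotientGroup.eq_one_iff (u : Q)).1 h1)
      rwa [← Subtype.ext (hvu : (v : Q) = u)])
    obtain ⟨e, he, he1, hec⟩ := exists_ne_one_centralizes (hQ.to_quotient D) hEbne (π y)
    have heK : e ∈ Kb := Subgroup.map_mono (Subgroup.map_subtype_le E) he
    -- the product of the conjugates of `a`
    set w : Q := ((a : Q) * y) ^ p * (y ^ p)⁻¹ with hw
    have hyp : y ^ p ∈ K := by
      rw [← hidx]; exact Subgroup.pow_index_mem K y
    have hayp : ((a : Q) * y) ^ p ∈ K := by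
      rw [← hidx]; exact Subgroup.pow_index_mem K _
    have hwK : w ∈ K := K.mul_mem hayp (K.inv_mem hyp)
    have hwc : π w ∈ Kb ⊓ Subgroup.centralizer ({π y} : Set (Q ⧸ D)) := by
      refine ⟨(hπK w).2 hwK, ?_⟩
      rw [hw, map_mul, map_inv]
      refine Subgroup.mul_mem _ ?_ (Subgroup.inv_mem _ ?_)
      · have h1 : Commute (π (((a : Q) * y) ^ p)) (π (a : Q) * π y) := by
          rw [map_pow, map_mul]
          exact Commute.pow_self _ _
        have h2 : Commute (π (((a : Q) * y) ^ p)) (π (a : Q)) :=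
          hKbab _ ((hπK _).2 hayp) _ ((hπK _).2 a.2)
        have h3 := h2.inv_right.mul_right h1
        rw [inv_mul_cancel_left] at h3
        exact Subgroup.mem_centralizer_singleton_iff.2 h3.eq
      · exact Subgroup.mem_centralizer_singleton_iff.2 (by
          rw [map_pow]; exact (Commute.pow_self _ _).eq)
    have hwval : ∀ n : ℕ, n ≤ p → ∃ hn : ((a : Q) * y) ^ n * (y ^ n)⁻¹ ∈ K,
        φ ⟨_, hn⟩ = if n = 0 then 1 else Multiplicative.ofAdd 1 := by
      intro n
      induction n with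
      | zero => exact fun _ => ⟨by simp, by simp [show (⟨1, K.one_mem⟩ : K) = 1 from rfl]⟩
      | succ n ih =>
        intro hn1
        obtain ⟨hn, hval⟩ := ih (Nat.le_of_succ_le hn1)
        have e1 : ((a : Q) * y) ^ (n + 1) * (y ^ (n + 1))⁻¹ =
            ((⟨_, hn⟩ * MulAut.conjNormal (y ^ n) a : K) : Q) := by
          simp only [Subgroup.coe_mul, MulAut.conjNormal_apply, pow_succ, mul_inv_rev]
          group
        have hn' : ((a : Q) * y) ^ (n + 1) * (y ^ (n + 1))⁻¹ ∈ K := e1 ▸ SetLike.coe_mem _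
        refine ⟨hn', ?_⟩
        rw [show (⟨_, hn'⟩ : K) = ⟨_, hn⟩ * MulAut.conjNormal (y ^ n) a from Subtype.ext e1,
          map_mul, hval, if_neg (Nat.succ_ne_zero n)]
        by_cases h0 : n = 0
        · subst h0
          simp [hφa]
        · rw [if_neg h0, hvan _ ?_, mul_one]
          intro hmem
          rw [← QuotientGroup.eq_one_iff, QuotientGroup.mk_pow, ← orderOf_dvd_iff_pow_eq_one,
            hyo] at hmem
          have := Nat.le_of_dvd (Nat.pos_of_ne_zero h0) hmem
          omega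
    obtain ⟨hwm, hwφ⟩ := hwval p le_rfl
    rw [if_neg hp.out.ne_zero] at hwφ
    -- the subgroup of order `p` is generated by `e`
    have hmem : π w ∈ Subgroup.zpowers e := by
      have h := mem_zpowers_of_prime_card hW
        (g := (⟨e, heK, hec⟩ : ↥(Kb ⊓ Subgroup.centralizer ({π y} : Set (Q ⧸ D)))))
        (g' := ⟨π w, hwc⟩) (fun h => he1 (congrArg Subtype.val h))
      obtain ⟨n, hn⟩ := Subgroup.mem_zpowers_iff.1 h
      exact Subgroup.mem_zpowers_iff.2 ⟨n, by simpa using congrArg Subtype.val hn⟩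
    obtain ⟨z, hz, hzw⟩ := Subgroup.mem_map.1
      ((Subgroup.zpowers_le.2 he : Subgroup.zpowers e ≤ Eb) hmem)
    obtain ⟨v, hv, rfl⟩ := Subgroup.mem_map.1 hz
    rw [hπ, QuotientGroup.mk'_apply, QuotientGroup.mk'_apply, QuotientGroup.eq] at hzw
    obtain ⟨d, hd, hdw⟩ := Subgroup.mem_map.1 hzw
    have h1 : (⟨w, hwK⟩ : K) = v * d := Subtype.ext (by
      show w = (v : Q) * (d : Q)
      rw [show ((d : K) : Q) = (v : Q)⁻¹ * w from hdw, mul_inv_cancel_left])
    have h2 : φ ⟨w, hwK⟩ = 1 := by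
      have hh := (hEmem _).1 (E.mul_mem hv (hDE d hd)) 1
      rw [hψ, inv_one, map_one] at hh
      rw [h1]
      exact hh
    have h3 : Multiplicative.ofAdd (1 : ZMod p) = 1 := hwφ.symm.trans h2
    exact absurd h3 (by simp)
  have hAtop : A = ⊤ :=
    eq_top_of_sup_commutator (hQ.to_subgroup K) (top_le_iff.1 (hAE ▸ sup_le_sup_left hED A))
  haveI := Subgroup.isMulCommutative_closure (k := Set.range c) (by
    rintro _ ⟨k, rfl⟩ _ ⟨l, rfl⟩
    by_cases h : k = l
    · subst h; rfl
    · have hg : (y ^ k.val)⁻¹ * y ^ l.val ∉ K := fun hmem => h (hcls k l hmem)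
      have h4 := congrArg (fun t => y ^ k.val * t * (y ^ k.val)⁻¹) (hcomm _ hg).eq
      refine Subtype.ext ?_
      simp only [hc, Subgroup.coe_mul, MulAut.conjNormal_apply]
      simp only [mul_inv_rev, inv_inv, mul_assoc, mul_inv_cancel_left, inv_mul_cancel_left, mul_inv_cancel, mul_one] at h4 ⊢
      exact h4)
  intro u hu v hv
  exact congrArg Subtype.val (congrArg Subtype.val (mul_comm'
    (⟨⟨u, hu⟩, hA ▸ hAtop ▸ Subgroup.mem_top _⟩ : Subgroup.closure (Set.range c))
    ⟨⟨v, hv⟩, hA ▸ hAtop ▸ Subgroup.mem_top _⟩))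

end Cfsg.Agent.Lib.MaxClassCentralizer
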